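import Groth.Agent.Lib.PicH1.Thick
import Groth.Agent.Lib.PicH1.IdealCoh
import Groth.Agent.Lib.FSchSys.Completion
import Groth.Agent.Lib.UnitsThick26.Vanish
import Groth.Prelude.Def_Lef

/-!
# The step between two consecutive thickenings on units and invertible modules
-/

set_option autoImplicit false
set_option backward.isDefEq.respectTransparency false
set_option linter.style.haveILetI false

universe u

open CategoryTheory CategoryTheory.Limits AlgebraicGeometry

namespace GrothLib.LefPic7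

variable {X : Scheme.{u}}

/-- The inclusion of consecutive thickenings. -/
noncomputable abbrev step (𝓘 : X.IdealSheafData) (n : ℕ) :
    (𝓘 ^ (n + 1)).subscheme ⟶ (𝓘 ^ (n + 2)).subscheme :=
  Scheme.IdealSheafData.inclusion (Lef.pow_succ_le 𝓘 n)

instance (𝓘 : X.IdealSheafData) (n : ℕ) : IsClosedImmersion (step 𝓘 n) := by
  have h := Scheme.IdealSheafData.inclusion_subschemeι (Lef.pow_succ_le 𝓘 n)
  have : IsClosedImmersion (step 𝓘 n ≫ (𝓘 ^ (n + 2)).subschemeι) := by rw [h]; infer_instance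
  exact IsClosedImmersion.of_comp_isClosedImmersion _ (𝓘 ^ (n + 2)).subschemeι

theorem isSqZero_step (𝓘 : X.IdealSheafData) (n : ℕ) : UnitsThick26.IsSqZero (step 𝓘 n) := by
  have hk : (step 𝓘 n).ker = (𝓘 ^ (n + 1)).comap (𝓘 ^ (n + 2)).subschemeι := by
    rw [FSchSys.ker_eq_comap_of_comp_eq (Scheme.IdealSheafData.inclusion_subschemeι (Lef.pow_succ_le 𝓘 n)),
      Scheme.IdealSheafData.ker_subschemeι]
  have h2 : (step 𝓘 n).ker * (step 𝓘 n).ker = ⊥ := by
    rw [hk, ← FSchSys.comap_mul, ← pow_add, eq_bot_iff,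
      ← FSchSys.comap_subschemeι_self (𝓘 ^ (n + 2))]
    refine Scheme.IdealSheafData.comap_mono _ ?_
    rw [show n + 1 + (n + 1) = (n + 2) + n by omega, pow_add]
    exact mul_le_of_le_one_right' le_top
  refine UnitsThick26.isSqZero_of_affine _ fun W hW a b ha hb => ?_
  have hab : a * b ∈ ((step 𝓘 n).ker * (step 𝓘 n).ker).ideal ⟨W, hW⟩ := by
    rw [Scheme.IdealSheafData.ideal_mul, Pi.mul_apply, Scheme.Hom.ker_apply]
    exact Ideal.mul_mem_mul ha hb
  rw [h2, Scheme.IdealSheafData.ideal_bot] at hab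
  simpa using hab

theorem nonempty_kernel_quotMap_iso {I J : X.IdealSheafData} (h : I ≤ J) :
    Nonempty (kernel (Lef.quotMap h) ≅ (Scheme.Modules.pushforward I.subschemeι).obj
      (UnitsThick26.kerMod (Scheme.IdealSheafData.inclusion h))) :=
  ⟨kernelCompMono _ _ ≪≫ (PreservesKernel.iso (Scheme.Modules.pushforward I.subschemeι) _).symm⟩

theorem subsingleton_H_kerMod {I J : X.IdealSheafData} (h : I ≤ J) (q : ℕ)
    (hq : Subsingleton (Coh.HH X (kernel (Lef.quotMap h)) q)) :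
    Subsingleton (Sheaf.H.{u} (Coh.toAb (UnitsThick26.kerMod (Scheme.IdealSheafData.inclusion h))) q) := by
  let c := Scheme.IdealSheafData.inclusion h
  obtain ⟨ε⟩ := nonempty_kernel_quotMap_iso h
  haveI : IsClosedImmersion c := by
    have : IsClosedImmersion (c ≫ I.subschemeι) := by
      rw [Scheme.IdealSheafData.inclusion_subschemeι]; infer_instance
    exact IsClosedImmersion.of_comp_isClosedImmersion c I.subschemeι
  haveI : ((Scheme.Modules.pushforward c).obj (Coh.structureModule J.subscheme)).IsQuasicoherent :=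
    haveI : (Coh.structureModule J.subscheme).IsQuasicoherent := WeakAss.isQuasicoherent_structureModule
    QCoh.isQuasicoherent_pushforward c _
  haveI : (UnitsThick26.kerMod c).IsQuasicoherent := QCoh.isQuasicoherent_kernel _
  obtain ⟨e⟩ := Cohom.nonempty_HH_equiv_pushforward I.subschemeι (UnitsThick26.kerMod c) q
  let e' := UnitsThick26.HIso ((SheafOfModules.toSheaf X.ringCatSheaf).mapIso ε) q
  have h1 : Subsingleton (Coh.HH X ((Scheme.Modules.pushforward I.subschemeι).obj (UnitsThick26.kerMod c)) q) :=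
    @Equiv.subsingleton _ _ e'.symm.toEquiv hq
  exact @Equiv.subsingleton _ _ e.toEquiv h1

/-- What a step provides: injectivity on invertible modules and lifting of units. -/
def StepOK {Z' Z : Scheme.{u}} (c : Z' ⟶ Z) : Prop :=
  Function.Injective (Cube.pull c) ∧ ∀ v : (Γ(Z', ⊤))ˣ, ∃ w : (Γ(Z, ⊤))ˣ, c.appTop (w : Γ(Z, ⊤)) = (v : Γ(Z', ⊤))

theorem stepOK_of_H1 (𝓘 : X.IdealSheafData) (n : ℕ)
    (h : Subsingleton (Coh.HH X (kernel (Lef.quotMap (Lef.pow_succ_le 𝓘 n))) 1)) : StepOK (step 𝓘 n) := by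
  have hc := isSqZero_step 𝓘 n
  have h1 := subsingleton_H_kerMod (Lef.pow_succ_le 𝓘 n) 1 h
  refine ⟨PicH1.pull_injective_of_H1 hc h1, fun v => ?_⟩
  have hv : v ∈ (PicH1.conn0 hc).ker := congrArg Multiplicative.ofAdd (@Subsingleton.elim _ h1 _ 0)
  rw [PicH1.ker_conn0] at hv
  obtain ⟨w, hw⟩ := hv
  exact ⟨w, congrArg Units.val hw⟩

theorem pull_surjective_step (𝓘 : X.IdealSheafData) (n : ℕ)
    (h : Subsingleton (Coh.HH X (kernel (Lef.quotMap (Lef.pow_succ_le 𝓘 n))) 2)) :
    Function.Surjective (Cube.pull (step 𝓘 n)) :=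
  PicH1.pull_surjective_of_H2 (isSqZero_step 𝓘 n) (subsingleton_H_kerMod (Lef.pow_succ_le 𝓘 n) 2 h)

/-- Transport along isomorphic arrows. -/
theorem StepOK.of_iso {Z' Z W' W : Scheme.{u}} {c : Z' ⟶ Z} {d : W' ⟶ W} (σ' : W' ⟶ Z') (σ : W ⟶ Z) [IsIso σ']
    [IsIso σ] (w : d ≫ σ = σ' ≫ c) (h : StepOK c) : StepOK d := by
  have hd : d = σ' ≫ c ≫ inv σ := by rw [← Category.assoc, ← w, Category.assoc, IsIso.hom_inv_id, Category.comp_id]
  have hinj : ∀ {A B : Scheme.{u}} (f : A ⟶ B) [IsIso f], Function.Injective (Cube.pull f) := by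
    intro A B f _ x y hxy
    have := congrArg (Cube.pull (inv f)) hxy
    rwa [Cube.pull_comp, Cube.pull_comp, IsIso.inv_hom_id, Cube.pull_id, Cube.pull_id] at this
  refine ⟨fun x y hxy => ?_, fun v => ?_⟩
  · refine hinj (inv σ) (h.1 (hinj σ' ?_))
    rwa [Cube.pull_comp, Cube.pull_comp, Cube.pull_comp, Cube.pull_comp, Category.assoc, ← hd]
  · obtain ⟨u, hu⟩ := h.2 (Units.map (inv σ').appTop.hom.toMonoidHom v)
    refine ⟨Units.map σ.appTop.hom.toMonoidHom u, ?_⟩
    have h1 : ∀ a, d.appTop (σ.appTop a) = σ'.appTop (c.appTop a) := fun a => by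
      rw [← ConcreteCategory.comp_apply, ← ConcreteCategory.comp_apply, ← Scheme.Hom.comp_appTop,
        ← Scheme.Hom.comp_appTop, w]
    refine (h1 _).trans ((congrArg σ'.appTop hu).trans ?_)
    show σ'.appTop ((inv σ').appTop (v : Γ(W', ⊤))) = v
    rw [← ConcreteCategory.comp_apply, ← Scheme.Hom.comp_appTop, IsIso.hom_inv_id, Scheme.Hom.id_appTop]
    rfl

/-- A subscheme lying inside an open is the subscheme of the restricted ideal. -/
theorem isIso_subschemeMap_comap (K : X.IdealSheafData) {U : X.Opens} (hU : (K.support : Set X) ⊆ U) :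
    IsIso (Scheme.IdealSheafData.subschemeMap (K.comap U.ι) K U.ι
      (Scheme.IdealSheafData.le_map_iff_comap_le.mpr le_rfl)) := by
  let σ := Scheme.IdealSheafData.subschemeMap (K.comap U.ι) K U.ι
      (Scheme.IdealSheafData.le_map_iff_comap_le.mpr le_rfl)
  have hσ : σ ≫ K.subschemeι = (K.comap U.ι).subschemeι ≫ U.ι :=
    Scheme.IdealSheafData.subschemeMap_subschemeι _ _ _ _
  let g : K.subscheme ⟶ U := IsOpenImmersion.lift U.ι K.subschemeι (by
    rw [Scheme.Opens.range_ι, K.range_subschemeι]; exact hU)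
  have hg : g ≫ U.ι = K.subschemeι := IsOpenImmersion.lift_fac _ _ _
  let τ : K.subscheme ⟶ (K.comap U.ι).subscheme := IsClosedImmersion.lift (K.comap U.ι).subschemeι g (by
    rw [Scheme.IdealSheafData.ker_subschemeι, ← Scheme.IdealSheafData.le_map_iff_comap_le,
      Scheme.IdealSheafData.map_ker, hg, Scheme.IdealSheafData.ker_subschemeι])
  have hτ : τ ≫ (K.comap U.ι).subschemeι = g := IsClosedImmersion.lift_fac _ _ _
  refine ⟨τ, ?_, ?_⟩
  · rw [← cancel_mono (K.comap U.ι).subschemeι, Category.assoc, hτ, ← cancel_mono U.ι, Category.assoc, hg,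
      Category.id_comp]
    exact hσ
  · rw [← cancel_mono K.subschemeι, Category.assoc, hσ, ← Category.assoc, hτ, hg, Category.id_comp]

theorem stepOK_comap (𝓘 : X.IdealSheafData) {U : X.Opens} (hU : (𝓘.support : Set X) ⊆ U) (n : ℕ)
    (h : StepOK (step 𝓘 n)) : StepOK (step (𝓘.comap U.ι) n) := by
  have hp : ∀ m, (𝓘 ^ (m + 1)).comap U.ι = (𝓘.comap U.ι) ^ (m + 1) := fun m => FSchSys.comap_pow 𝓘 U.ι (m + 1)
  have hσ : ∀ m, ∃ σ : ((𝓘.comap U.ι) ^ (m + 1)).subscheme ⟶ (𝓘 ^ (m + 1)).subscheme,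
      IsIso σ ∧ σ ≫ (𝓘 ^ (m + 1)).subschemeι = ((𝓘.comap U.ι) ^ (m + 1)).subschemeι ≫ U.ι := fun m => by
    rw [← hp m]
    exact ⟨_, isIso_subschemeMap_comap (𝓘 ^ (m + 1))
      (by rw [Scheme.IdealSheafData.support_pow_succ]; exact hU),
      Scheme.IdealSheafData.subschemeMap_subschemeι _ _ _ _⟩
  choose σ hi hσ using hσ
  haveI := hi n
  haveI := hi (n + 1)
  refine h.of_iso (σ n) (σ (n + 1)) ?_
  rw [← cancel_mono (𝓘 ^ (n + 1 + 1)).subschemeι, Category.assoc, hσ, Category.assoc,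
    Scheme.IdealSheafData.inclusion_subschemeι_assoc]
  exact ((congrArg (σ n ≫ ·) (Scheme.IdealSheafData.inclusion_subschemeι _)).trans (hσ n)).symm

end GrothLib.LefPic7
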