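import Groth.Agent.Lib.LefPic7.Triv
import Groth.Agent.Lib.DescLocus6.Frames
import Groth.Agent.Lib.FunMor20.Supp
import Groth.Agent.Lib.Seesaw26.Scheme
import Groth.Agent.Lib.ParaPair.Basic
import Groth.Prelude.Def_LefX

/-!
# Invertible modules on a thickening come from neighbourhoods under the effective Lefschetz condition
-/

set_option autoImplicit false
set_option backward.isDefEq.respectTransparency false
set_option linter.style.haveILetI false

universe u

open CategoryTheory CategoryTheory.Limits AlgebraicGeometry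

namespace GrothLib.LefPic7

variable {X : Scheme.{u}}

theorem exists_rep (p : Cube.Pic X) :
    ∃ (L : X.Modules) (hL : PicF.IsInvertible L), Cube.clsMod hL = p := by
  induction p using Quotient.inductionOn with
  | h d => exact ⟨d.twist 1, d.isInvertible_twist 1, Cube.clsMod_eq _ (Iso.refl (d.twist 1))⟩

theorem pull_incl {A B C : X.IdealSheafData} (hab : A ≤ B) (hbc : B ≤ C) (p : Cube.Pic A.subscheme) :
    Cube.pull (Scheme.IdealSheafData.inclusion hbc) (Cube.pull (Scheme.IdealSheafData.inclusion hab) p) =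
      Cube.pull (Scheme.IdealSheafData.inclusion (hab.trans hbc)) p := by
  rw [Cube.pull_comp, Scheme.IdealSheafData.inclusion_comp]

theorem pull_incl_self {A : X.IdealSheafData} (h : A ≤ A) (p : Cube.Pic A.subscheme) :
    Cube.pull (Scheme.IdealSheafData.inclusion h) p = p := by
  rw [show Scheme.IdealSheafData.inclusion h = 𝟙 _ from Scheme.IdealSheafData.inclusion_id _, Cube.pull_id]

theorem nonempty_pull_iso {Z' Z : Scheme.{u}} (c : Z' ⟶ Z) {F : Z.Modules} {F' : Z'.Modules}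
    (hF : PicF.IsInvertible F) (hF' : PicF.IsInvertible F')
    (h : Cube.pull c (Cube.clsMod hF) = Cube.clsMod hF') :
    Nonempty ((Scheme.Modules.pullback c).obj F ≅ F') :=
  (Cube.clsMod_eq_iff (Ample.isInvertible_pullback c hF) hF').1 ((Cube.clsMod_pullback c hF).trans h)

/-- The inclusion of consecutive thickenings, with successor indices. -/
noncomputable abbrev step' (𝓘 : X.IdealSheafData) (m : ℕ) :
    (𝓘 ^ (m + 1)).subscheme ⟶ (𝓘 ^ (m + 1 + 1)).subscheme :=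
  Scheme.IdealSheafData.inclusion (pow_le 𝓘 (Nat.le_add_right m 1))

theorem exists_modSys (𝓘 : X.IdealSheafData) (Q : ∀ m, Cube.Pic (𝓘 ^ (m + 1)).subscheme)
    (hQ : ∀ m, Cube.pull (step' 𝓘 m) (Q (m + 1)) = Q m) :
    ∃ (F : ∀ m, ((𝓘 ^ (m + 1)).subscheme).Modules) (hF : ∀ m, PicF.IsInvertible (F m)),
      (∀ m, Nonempty ((Scheme.Modules.pullback (step' 𝓘 m)).obj (F (m + 1)) ≅ F m)) ∧
        ∀ m, Cube.clsMod (hF m) = Q m := by
  choose F hF hFQ using fun m => exists_rep (Q m)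
  exact ⟨F, hF, fun m => nonempty_pull_iso (step' 𝓘 m) (hF (m + 1)) (hF m)
    ((congrArg (Cube.pull (step' 𝓘 m)) (hFQ (m + 1))).trans ((hQ m).trans (hFQ m).symm)), hFQ⟩

/-- Invertible modules on one thickening extend to a system of invertible modules on the completion. -/
theorem exists_system (𝓘 : X.IdealSheafData) (n : ℕ)
    (hs : ∀ m, n ≤ m → Function.Surjective (Cube.pull (step 𝓘 m)))
    {N : ((𝓘 ^ (n + 1)).subscheme).Modules} (hN : PicF.IsInvertible N) :
    ∃ 𝔐 : FSch.ModSys (FSch.completionAlong X 𝓘), (∀ m, PicF.IsInvertible (𝔐.F m)) ∧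
      Nonempty (𝔐.F n ≅ N) := by
  have hs' : ∀ k, Function.Surjective (Cube.pull (step' 𝓘 (n + k))) := fun k => hs (n + k) (Nat.le_add_right n k)
  choose lift hlift using hs'
  let P : ∀ k, Cube.Pic (𝓘 ^ (n + k + 1)).subscheme :=
    fun k => Nat.rec (Cube.clsMod hN : Cube.Pic (𝓘 ^ (n + 0 + 1)).subscheme) (fun k p => lift k p) k
  have hP : ∀ k, Cube.pull (step' 𝓘 (n + k)) (P (k + 1)) = P k := fun k => hlift k (P k)
  let Q : ∀ m, Cube.Pic (𝓘 ^ (m + 1)).subscheme := fun m =>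
    Cube.pull (Scheme.IdealSheafData.inclusion (pow_le 𝓘 (Nat.le_add_left m n))) (P m)
  have hQ : ∀ m, Cube.pull (step' 𝓘 m) (Q (m + 1)) = Q m := by
    intro m
    refine (pull_incl (pow_le 𝓘 (Nat.le_add_left (m + 1) n)) (pow_le 𝓘 (Nat.le_add_right m 1)) (P (m + 1))).trans ?_
    refine Eq.trans ?_ (congrArg (Cube.pull _) (hP m))
    exact (pull_incl (pow_le 𝓘 (Nat.le_add_right (n + m) 1)) (pow_le 𝓘 (Nat.le_add_left m n)) (P (m + 1))).symm
  have key : ∀ k, Cube.pull (Scheme.IdealSheafData.inclusion (pow_le 𝓘 (Nat.le_add_right n k))) (P k) =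
      Cube.clsMod hN := by
    intro k
    induction k with
    | zero => exact pull_incl_self _ _
    | succ k ih =>
      refine Eq.trans ?_ ih
      refine Eq.trans ?_ (congrArg (Cube.pull _) (hP k))
      exact (pull_incl (pow_le 𝓘 (Nat.le_add_right (n + k) 1)) (pow_le 𝓘 (Nat.le_add_right n k)) (P (k + 1))).symm
  obtain ⟨F, hF, he, hFQ⟩ := exists_modSys 𝓘 Q hQ
  refine ⟨⟨F, fun m => (he m).some⟩, hF, ?_⟩
  exact (Cube.clsMod_eq_iff (hF n) hN).1 ((hFQ n).trans (key n))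

/-- Rank one near the image of a map along which the pullback is invertible. -/
theorem exists_frame_one {Z : Scheme.{u}} (g : Z ⟶ X) {E : X.Modules} (hE : FlatMod.IsFinLocFree E)
    (hgE : PicF.IsInvertible ((Scheme.Modules.pullback g).obj E)) (z : Z) :
    ∃ (W : X.Opens) (e : Fin 1 → Γ(E, W)), g z ∈ W ∧ FinCov.IsFrame E W e := by
  haveI := Euler.isQuasicoherent_of_isFinLocFree hE
  obtain ⟨W, r, e, hx, he⟩ := FinCov.exists_frame_nhd hE (g z)
  obtain ⟨W', e', hz', he'⟩ := FinCov.exists_frame_nhd_of_rank (Euler.isFinLocFreeOfRank_one' hgE) z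
  obtain rfl : r = 1 := DescLocus6.frame_rank_unique
    (DescLocus6.isFrame_pullRes g E he (le_refl (g ⁻¹ᵁ W))) he' hx hz'
  exact ⟨W, e, hx, he⟩

/-- A locally free module on a neighbourhood restricts to an invertible one on a smaller neighbourhood. -/
theorem exists_invertible_nhd {Z : Scheme.{u}} {U : X.Opens} (g : Z ⟶ U) {E : (U : Scheme.{u}).Modules}
    (hE : FlatMod.IsFinLocFree E) (hgE : PicF.IsInvertible ((Scheme.Modules.pullback g).obj E)) :
    ∃ (V : X.Opens) (hVU : V ≤ U) (g' : Z ⟶ V), g' ≫ X.homOfLE hVU = g ∧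
      PicF.IsInvertible ((Scheme.Modules.pullback (X.homOfLE hVU)).obj E) := by
  haveI := Euler.isQuasicoherent_of_isFinLocFree hE
  let R : (U : Scheme.{u}).Opens := ⟨{x | ∃ (W : (U : Scheme.{u}).Opens) (e : Fin 1 → Γ(E, W)), x ∈ W ∧
      FinCov.IsFrame E W e}, isOpen_iff_forall_mem_open.2
    fun _ ⟨W, e, hx, he⟩ => ⟨W, fun _ hy => ⟨W, e, hy, he⟩, W.2, hx⟩⟩
  have hVU : U.ι ''ᵁ R ≤ U := U.ι_image_le R
  let j := X.homOfLE hVU
  have hj : ∀ v : (U.ι ''ᵁ R : X.Opens), j v ∈ R := by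
    intro v
    obtain ⟨r, hr, hrv⟩ := v.2
    have h2 : j v = r := U.ι.isOpenEmbedding.injective
      (((Scheme.Hom.comp_apply _ _ _).symm.trans (by rw [Scheme.homOfLE_ι]; rfl)).trans hrv.symm)
    rw [h2]; exact hr
  have hrange : Set.range g ⊆ Set.range j := by
    rintro _ ⟨z, rfl⟩
    have hz : g z ∈ R := exists_frame_one g hE hgE z
    refine ⟨⟨U.ι (g z), g z, hz, rfl⟩, U.ι.isOpenEmbedding.injective ?_⟩
    exact (Scheme.Hom.comp_apply _ _ _).symm.trans (by rw [Scheme.homOfLE_ι]; rfl)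
  refine ⟨U.ι ''ᵁ R, hVU, IsOpenImmersion.lift j g hrange, IsOpenImmersion.lift_fac _ _ _, ?_⟩
  refine (Seesaw26.isInvertible_iff_rank_one _).1 fun v => ?_
  obtain ⟨W, e, hv, he⟩ := hj v
  exact ⟨j ⁻¹ᵁ W, hv, FinCov.exists_iso_of_frame (DescLocus6.isFrame_pullRes j E he (le_refl _))⟩

/-- Pulling back a direct image from an open along a map through it. -/
theorem nonempty_pullback_push {Z : Scheme.{u}} {U : X.Opens} (g : Z ⟶ U) {i : Z ⟶ X} (h : g ≫ U.ι = i)
    (E : (U : Scheme.{u}).Modules) :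
    Nonempty ((Scheme.Modules.pullback i).obj ((Scheme.Modules.pushforward U.ι).obj E) ≅
      (Scheme.Modules.pullback g).obj E) := by
  haveI := FunMor20.isIso_counit_open U.ι
  exact ⟨((Scheme.Modules.pullbackComp g U.ι ≪≫ Scheme.Modules.pullbackCongr h).app _).symm ≪≫
    (Scheme.Modules.pullback g).mapIso (asIso ((Scheme.Modules.pullbackPushforwardAdjunction U.ι).counit.app E))⟩

theorem cls_pull_subscheme (𝓘 : X.IdealSheafData) {U : X.Opens} (n : ℕ)
    (g : (𝓘 ^ (n + 1)).subscheme ⟶ U) (hg : g ≫ U.ι = (𝓘 ^ (n + 1)).subschemeι)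
    {p : Cube.Pic (U : Scheme.{u})} (h : Cube.pull g p = 1) :
    Cube.pull ((𝓘.comap U.ι) ^ (n + 1)).subschemeι p = 1 := by
  rw [← FSchSys.comap_pow 𝓘 U.ι (n + 1)]
  have hσ := Scheme.IdealSheafData.subschemeMap_subschemeι ((𝓘 ^ (n + 1)).comap U.ι) (𝓘 ^ (n + 1)) U.ι
    (Scheme.IdealSheafData.le_map_iff_comap_le.mpr le_rfl)
  have e : Scheme.IdealSheafData.subschemeMap _ _ _ (Scheme.IdealSheafData.le_map_iff_comap_le.mpr le_rfl) ≫ g =
      ((𝓘 ^ (n + 1)).comap U.ι).subschemeι := by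
    rw [← cancel_mono U.ι, Category.assoc, hg, hσ]
  rw [← e, ← Cube.pull_comp, h, map_one]

/-- Every invertible module on a thickening extends to a neighbourhood, under the effective Lefschetz condition. -/
theorem exists_extension (𝓘 : X.IdealSheafData) (hLeff : LefX.LeffCond X 𝓘) (n : ℕ)
    (hs : ∀ m, n ≤ m → Function.Surjective (Cube.pull (step 𝓘 m)))
    {N : ((𝓘 ^ (n + 1)).subscheme).Modules} (hN : PicF.IsInvertible N) :
    ∃ (U : X.Opens) (L : (U : Scheme.{u}).Modules) (g : (𝓘 ^ (n + 1)).subscheme ⟶ U),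
      (𝓘.support : Set X) ⊆ (U : Set X) ∧ g ≫ U.ι = (𝓘 ^ (n + 1)).subschemeι ∧ PicF.IsInvertible L ∧
        Nonempty ((Scheme.Modules.pullback g).obj L ≅ N) := by
  obtain ⟨𝔐, hinv, ⟨eN⟩⟩ := exists_system 𝓘 n hs hN
  obtain ⟨U, E, hU, hE, ⟨ε⟩⟩ := hLeff.2 𝔐 fun m => Euler.isFinLocFree_of_isInvertible (hinv m)
  let g : (𝓘 ^ (n + 1)).subscheme ⟶ U := IsOpenImmersion.lift U.ι (𝓘 ^ (n + 1)).subschemeι (by
    rw [Scheme.Opens.range_ι, (𝓘 ^ (n + 1)).range_subschemeι, Scheme.IdealSheafData.support_pow_succ]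
    exact hU)
  have hg : g ≫ U.ι = (𝓘 ^ (n + 1)).subschemeι := IsOpenImmersion.lift_fac _ _ _
  obtain ⟨δ⟩ := nonempty_pullback_push g hg E
  let εn : (Scheme.Modules.pullback g).obj E ≅ 𝔐.F n :=
    δ.symm ≪≫ ⟨ε.hom.app n, ε.inv.app n, congrArg (fun k => FSch.ModSys.Hom.app k n) ε.hom_inv_id,
      congrArg (fun k => FSch.ModSys.Hom.app k n) ε.inv_hom_id⟩
  obtain ⟨V, hVU, g', hg', hL⟩ := exists_invertible_nhd g hE
    (ParaPair.isInvertible_of_iso εn (hinv n))
  refine ⟨V, _, g', ?_, ?_, hL, ⟨(Scheme.Modules.pullbackComp g' (X.homOfLE hVU)).app E ≪≫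
    (Scheme.Modules.pullbackCongr hg').app E ≪≫ εn ≪≫ eN⟩⟩
  · intro y hy
    rw [← Scheme.IdealSheafData.support_pow_succ (I := 𝓘) n, ← (𝓘 ^ (n + 1)).range_subschemeι] at hy
    obtain ⟨z, rfl⟩ := hy
    rw [← hg, ← hg', Category.assoc, Scheme.homOfLE_ι, Scheme.Hom.comp_apply]
    exact (g' z).2
  · rw [← hg, ← hg', Category.assoc, Scheme.homOfLE_ι]

end GrothLib.LefPic7
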