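import Groth.Agent.Lib.LefPic7.Step
import Groth.Agent.Lib.LefEt7.Completion
import Groth.Agent.Lib.Euler.Coh
import Groth.Agent.Lib.Euler.Section
import Groth.Agent.Lib.Algz56.Sheaves
import Groth.Agent.Lib.OX.Tensor
import Groth.Agent.Lib.VA.Powers

/-!
# An invertible module trivial on one thickening is trivial, under the Lefschetz bijectivity

The hypotheses are that restriction between the later thickenings is injective on invertible modules and
surjective on units.
-/

set_option autoImplicit false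
set_option backward.isDefEq.respectTransparency false
set_option linter.style.haveILetI false

universe u

open CategoryTheory CategoryTheory.Limits AlgebraicGeometry

namespace GrothLib.LefPic7

open LefEt7 (toPull toPull_comp toPull_injective toPull_quotMap toSubscheme_quotMap homEquiv_pullUnitIso)

variable {X : Scheme.{u}}

/-- Multiplication by a global function. -/
noncomputable def mulEnd {Z : Scheme.{u}} (a : Γ(Z, ⊤)) : Coh.structureModule Z ⟶ Coh.structureModule Z :=
  FinCov.homOfSection (N := Coh.structureModule Z) a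

theorem mulEnd_one {Z : Scheme.{u}} (a : Γ(Z, ⊤)) : (mulEnd a).app ⊤ (FinCov.one Z ⊤) = a :=
  (FinCov.homOfSection_one (N := Coh.structureModule Z) a ⊤).trans (LefEt7.presheaf_map_self _ _ _)

theorem mulEnd_app_top {Z : Scheme.{u}} (a b : Γ(Z, ⊤)) :
    (show Γ(Z, ⊤) from (mulEnd a).app ⊤ b) = b * a := by
  refine (Euler.homOfSection_app (L := Coh.structureModule Z) a ⊤ b).trans ?_
  exact congrArg (fun c : Γ(Z, ⊤) => b * c) (LefEt7.presheaf_map_self (Coh.structureModule Z) _ a)

theorem mulEnd_comp {Z : Scheme.{u}} (a b : Γ(Z, ⊤)) : mulEnd a ≫ mulEnd b = mulEnd (a * b) := by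
  refine FunMor20.homOfSection_unique ?_
  refine Eq.trans ?_ (mulEnd_one _).symm
  exact (congrArg ((mulEnd b).app ⊤) (mulEnd_one a)).trans (mulEnd_app_top b a)

theorem mulEnd_id (Z : Scheme.{u}) : mulEnd (1 : Γ(Z, ⊤)) = 𝟙 _ :=
  FunMor20.homOfSection_unique ((mulEnd_one _).trans rfl)

theorem mulEnd_self {Z : Scheme.{u}} (α : Coh.structureModule Z ⟶ Coh.structureModule Z) :
    mulEnd (α.app ⊤ (FinCov.one Z ⊤)) = α :=
  FunMor20.homOfSection_unique (mulEnd_one _)

theorem isIso_mulEnd {Z : Scheme.{u}} (w : (Γ(Z, ⊤))ˣ) : IsIso (mulEnd (w : Γ(Z, ⊤))) :=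
  ⟨mulEnd ((w⁻¹ : (Γ(Z, ⊤))ˣ) : Γ(Z, ⊤)), by rw [mulEnd_comp, Units.mul_inv, mulEnd_id],
    by rw [mulEnd_comp, Units.inv_mul, mulEnd_id]⟩

theorem isUnit_of_isIso {Z : Scheme.{u}} (α : Coh.structureModule Z ⟶ Coh.structureModule Z) [IsIso α] :
    IsUnit (show Γ(Z, ⊤) from α.app ⊤ (FinCov.one Z ⊤)) := by
  refine IsUnit.of_mul_eq_one (show Γ(Z, ⊤) from (inv α).app ⊤ (FinCov.one Z ⊤)) ?_
  refine (mulEnd_one _).symm.trans ((congrArg (fun k => Scheme.Modules.Hom.app k ⊤ (FinCov.one Z ⊤))
    (?_ : mulEnd _ = 𝟙 _)).trans rfl)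
  rw [← mulEnd_comp, mulEnd_self, mulEnd_self, IsIso.hom_inv_id]

theorem mulEnd_unitToPush {Z' Z : Scheme.{u}} (j : Z' ⟶ Z) (a : Γ(Z, ⊤)) :
    mulEnd a ≫ ClSub.unitToPush j =
      ClSub.unitToPush j ≫ (Scheme.Modules.pushforward j).map (mulEnd (j.appTop a)) := by
  refine FunMor20.homOfSection_unique ?_
  refine Eq.trans (congrArg ((ClSub.unitToPush j).app ⊤) (mulEnd_one a)) ?_
  refine (mulEnd_one (j.appTop a)).symm.trans ?_
  exact congrArg ((mulEnd (j.appTop a)).app ⊤) (map_one j.appTop.hom).symm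

theorem push_map_quotMap {I J : X.IdealSheafData} (h : I ≤ J)
    (α : Coh.structureModule I.subscheme ⟶ Coh.structureModule I.subscheme)
    (β : Coh.structureModule J.subscheme ⟶ Coh.structureModule J.subscheme)
    (w : α ≫ ClSub.unitToPush (Scheme.IdealSheafData.inclusion h) =
      ClSub.unitToPush (Scheme.IdealSheafData.inclusion h) ≫
        (Scheme.Modules.pushforward (Scheme.IdealSheafData.inclusion h)).map β) :
    (Scheme.Modules.pushforward I.subschemeι).map α ≫ Lef.quotMap h =
      Lef.quotMap h ≫ (Scheme.Modules.pushforward J.subschemeι).map β := by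
  rw [Lef.quotMap, ← Category.assoc, ← Functor.map_comp, w, Functor.map_comp, Category.assoc, Category.assoc,
    Category.assoc]
  refine congrArg (_ ≫ ·) ?_
  rw [← (Scheme.Modules.pushforwardCongr (Scheme.IdealSheafData.inclusion_subschemeι h)).hom.naturality β,
    ← Category.assoc, ← Category.assoc]
  refine congrArg (· ≫ _) ?_
  exact (Scheme.Modules.pushforwardComp (Scheme.IdealSheafData.inclusion h) I.subschemeι).hom.naturality β

theorem quotMap_quotMap {I J K : X.IdealSheafData} (h : I ≤ J) (h' : J ≤ K) :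
    Lef.quotMap h ≫ Lef.quotMap h' = Lef.quotMap (h.trans h') := by
  have : Epi (ClSub.toSubscheme I) := Euler.epi_toSubscheme I
  rw [← cancel_epi (ClSub.toSubscheme I), ← Category.assoc, toSubscheme_quotMap, toSubscheme_quotMap,
    toSubscheme_quotMap]

/-- A morphism to a quotient of `O` whose transpose is an isomorphism. -/
def IsTriv (K : X.IdealSheafData) {L : X.Modules} (y : L ⟶ ClSub.quotMod K) : Prop := IsIso (toPull K y)

theorem IsTriv.quot {K J : X.IdealSheafData} (h : K ≤ J) {L : X.Modules} {y : L ⟶ ClSub.quotMod K}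
    (hy : IsTriv K y) : IsTriv J (y ≫ Lef.quotMap h) := by
  haveI : IsIso (toPull K y) := hy
  have e := toPull_quotMap h y
  exact IsIso.of_isIso_fac_left e.symm

theorem IsTriv.isIso_transpose {K : X.IdealSheafData} {L : X.Modules} {y : L ⟶ ClSub.quotMod K}
    (hy : IsTriv K y) :
    IsIso (((Scheme.Modules.pullbackPushforwardAdjunction K.subschemeι).homEquiv _ _).symm y) := by
  unfold IsTriv toPull at hy
  exact IsIso.of_isIso_comp_right _ (OX.pullUnitIso K.subschemeι).inv

theorem isTriv_push (K : X.IdealSheafData) {L : X.Modules} {y : L ⟶ ClSub.quotMod K} (hy : IsTriv K y)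
    (α : Coh.structureModule K.subscheme ⟶ Coh.structureModule K.subscheme) [IsIso α] :
    IsTriv K (y ≫ (Scheme.Modules.pushforward K.subschemeι).map α) := by
  haveI := hy.isIso_transpose
  unfold IsTriv toPull
  rw [Adjunction.homEquiv_naturality_right_symm]
  infer_instance

theorem exists_isTriv (K : X.IdealSheafData) {L : X.Modules} (hL : PicF.IsInvertible L)
    (h : Cube.pull K.subschemeι (Cube.clsMod hL) = 1) : ∃ y : L ⟶ ClSub.quotMod K, IsTriv K y := by
  rw [← Cube.clsMod_pullback, Cube.clsMod_eq_one_iff] at h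
  obtain ⟨θ⟩ := h
  refine ⟨(Scheme.Modules.pullbackPushforwardAdjunction K.subschemeι).homEquiv _ _ θ.hom, ?_⟩
  unfold IsTriv toPull
  rw [Equiv.symm_apply_apply]
  infer_instance

theorem eq_push_of_isTriv (K : X.IdealSheafData) {L : X.Modules} {z y : L ⟶ ClSub.quotMod K} (hz : IsTriv K z)
    (hy : IsTriv K y) : ∃ β : Coh.structureModule K.subscheme ⟶ Coh.structureModule K.subscheme,
      IsIso β ∧ z ≫ (Scheme.Modules.pushforward K.subschemeι).map β = y := by
  let adj := Scheme.Modules.pullbackPushforwardAdjunction K.subschemeι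
  haveI : IsIso ((adj.homEquiv _ _).symm z) := hz.isIso_transpose
  haveI : IsIso ((adj.homEquiv _ _).symm y) := hy.isIso_transpose
  refine ⟨inv ((adj.homEquiv _ _).symm z) ≫ (adj.homEquiv _ _).symm y, inferInstance, ?_⟩
  apply (adj.homEquiv _ _).symm.injective
  rw [Adjunction.homEquiv_naturality_right_symm, IsIso.hom_inv_id_assoc]

/-- One step of lifting a trivialisation. -/
theorem exists_triv_lift {K J : X.IdealSheafData} (h : K ≤ J)
    (hs : StepOK (Scheme.IdealSheafData.inclusion h)) {L : X.Modules} (hL : PicF.IsInvertible L)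
    {y : L ⟶ ClSub.quotMod J} (hy : IsTriv J y) (hJ : Cube.pull J.subschemeι (Cube.clsMod hL) = 1) :
    ∃ y' : L ⟶ ClSub.quotMod K, IsTriv K y' ∧ y' ≫ Lef.quotMap h = y := by
  have hK : Cube.pull K.subschemeι (Cube.clsMod hL) = 1 := by
    refine hs.1 ?_
    rw [Cube.pull_comp, Scheme.IdealSheafData.inclusion_subschemeι, hJ, map_one]
  obtain ⟨z, hz⟩ := exists_isTriv K hL hK
  obtain ⟨β, hβ, e⟩ := eq_push_of_isTriv J (hz.quot h) hy
  haveI := hβ
  obtain ⟨w, hw⟩ := hs.2 (isUnit_of_isIso β).unit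
  rw [IsUnit.unit_spec] at hw
  haveI := isIso_mulEnd w
  refine ⟨z ≫ (Scheme.Modules.pushforward K.subschemeι).map (mulEnd (w : Γ(K.subscheme, ⊤))), isTriv_push K hz _, ?_⟩
  rw [Category.assoc, push_map_quotMap h _ β, ← Category.assoc, e]
  rw [mulEnd_unitToPush, hw, mulEnd_self]

variable (J : X.IdealSheafData)

theorem pow_le {i j : ℕ} (h : i ≤ j) : J ^ (j + 1) ≤ J ^ (i + 1) := by
  obtain ⟨k, rfl⟩ := Nat.exists_eq_add_of_le h
  rw [show i + k + 1 = i + 1 + k by omega, pow_add]
  exact mul_le_of_le_one_right' le_top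

theorem quotMap_congr {I K : X.IdealSheafData} (h h' : I ≤ K) : Lef.quotMap h = Lef.quotMap h' := rfl

/-- A compatible system of trivialisations on all thickenings. -/
theorem exists_triv_system (n : ℕ) (hs : ∀ m, n ≤ m → StepOK (step J m)) {L : X.Modules}
    (hL : PicF.IsInvertible L) (h : Cube.pull (J ^ (n + 1)).subschemeι (Cube.clsMod hL) = 1) :
    ∃ y : ∀ m, L ⟶ ClSub.quotMod (J ^ (m + 1)), Lef.IsFormalHom J L y ∧ ∀ m, IsTriv _ (y m) := by
  have hpull : ∀ k, Cube.pull (J ^ (n + k + 1)).subschemeι (Cube.clsMod hL) = 1 := by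
    intro k
    induction k with
    | zero => exact h
    | succ k ih =>
      refine (hs (n + k) (Nat.le_add_right _ _)).1 ?_
      refine (Cube.pull_comp _ _ _).trans (Eq.trans ?_ (map_one _).symm)
      exact (congrArg (fun i => Cube.pull i (Cube.clsMod hL))
        (Scheme.IdealSheafData.inclusion_subschemeι _)).trans ih
  obtain ⟨y₀, hy₀⟩ := exists_isTriv _ hL (hpull 0)
  choose next hnext hnq using fun (k : ℕ) (y : {y : L ⟶ ClSub.quotMod (J ^ (n + k + 1)) // IsTriv _ y}) =>
    exists_triv_lift (Lef.pow_succ_le J (n + k)) (hs (n + k) (Nat.le_add_right _ _)) hL y.2 (hpull k)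
  let s : ∀ k, {y : L ⟶ ClSub.quotMod (J ^ (n + k + 1)) // IsTriv _ y} :=
    fun k => Nat.rec ⟨y₀, hy₀⟩ (fun k y => ⟨next k y, hnext k y⟩) k
  have hsq : ∀ k, (s (k + 1)).1 ≫ Lef.quotMap (Lef.pow_succ_le J (n + k)) = (s k).1 := fun k => hnq k (s k)
  refine ⟨fun m => (s m).1 ≫ Lef.quotMap (pow_le J (Nat.le_add_left m n)), fun m => ?_, fun m => (s m).2.quot _⟩
  beta_reduce
  rw [Category.assoc, quotMap_quotMap, ← hsq m, Category.assoc, quotMap_quotMap]

/-- A morphism to `O` that is an isomorphism on every thickening. -/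
theorem exists_hom_levelwise_iso (n : ℕ) (hs : ∀ m, n ≤ m → StepOK (step J m)) {L : X.Modules}
    (hL : PicF.IsInvertible L) (h : Cube.pull (J ^ (n + 1)).subschemeι (Cube.clsMod hL) = 1)
    (hb : Lef.HomToFormalBijective J L) :
    ∃ φ : L ⟶ Coh.structureModule X,
      ∀ m, IsIso ((Scheme.Modules.pullback (J ^ (m + 1)).subschemeι).map φ) := by
  obtain ⟨y, hy, ht⟩ := exists_triv_system J n hs hL h
  obtain ⟨φ, hφ⟩ := hb.2 y hy
  refine ⟨φ, fun m => ?_⟩
  rw [← toPull_comp, hφ m]
  exact ht m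

/-- An endomorphism of `O` that is invertible on every thickening is invertible. -/
theorem isIso_of_levelwise (hb : Lef.HomToFormalBijective J (Coh.structureModule X))
    (χ : Coh.structureModule X ⟶ Coh.structureModule X)
    (hχ : ∀ m, IsIso ((Scheme.Modules.pullback (J ^ (m + 1)).subschemeι).map χ)) : IsIso χ := by
  have hy : ∀ m, ∃ y : Coh.structureModule X ⟶ ClSub.quotMod (J ^ (m + 1)),
      toPull (J ^ (m + 1)) y = inv ((Scheme.Modules.pullback (J ^ (m + 1)).subschemeι).map χ) := fun m =>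
    ⟨(Scheme.Modules.pullbackPushforwardAdjunction (J ^ (m + 1)).subschemeι).homEquiv _ _
      (inv ((Scheme.Modules.pullback (J ^ (m + 1)).subschemeι).map χ) ≫ (OX.pullUnitIso _).hom), by
      rw [toPull, Equiv.symm_apply_apply, Category.assoc, Iso.hom_inv_id, Category.comp_id]⟩
  choose y hy using hy
  have hχy : ∀ m, χ ≫ y m = ClSub.toSubscheme (J ^ (m + 1)) := fun m => by
    refine toPull_injective _ ?_
    rw [toPull, Adjunction.homEquiv_naturality_left_symm, Category.assoc]
    refine (congrArg (_ ≫ ·) (hy m)).trans ?_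
    rw [IsIso.hom_inv_id, ← CategoryTheory.Functor.map_id, ← toPull_comp, Category.id_comp]
  have hf : Lef.IsFormalHom J _ y := fun m => by
    refine toPull_injective _ ?_
    rw [← cancel_epi ((Scheme.Modules.pullback (J ^ (m + 1)).subschemeι).map χ)]
    simp only [toPull, ← Category.assoc, ← Adjunction.homEquiv_naturality_left_symm, hχy,
      toSubscheme_quotMap]
  obtain ⟨χ', hχ'⟩ := hb.2 y hf
  have h1 : χ ≫ χ' = 𝟙 _ := hb.1 _ _ fun m => by rw [Category.assoc, hχ', hχy, Category.id_comp]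
  have h2 : χ' ≫ χ = 𝟙 _ := by
    rw [← mulEnd_self χ, ← mulEnd_self χ', mulEnd_comp] at h1 ⊢
    rwa [mul_comm]
  exact ⟨χ', h1, h2⟩

theorem isIso_pullback_map_tensor {Z : Scheme.{u}} (f : Z ⟶ X) (L : X.Modules) {N N' : X.Modules} (a : N ⟶ N')
    [IsIso ((Scheme.Modules.pullback f).map a)] :
    IsIso ((Scheme.Modules.pullback f).map (((DCoh.tensorBi (X := X)).obj L).map a)) := by
  have e := OX.pullTensorIso_natural₂ f L a
  rw [← Iso.eq_comp_inv] at e
  rw [e]
  infer_instance

/-- Triviality from one thickening. -/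
theorem iso_unit_of_thickening (n : ℕ) (hs : ∀ m, n ≤ m → StepOK (step J m))
    (hb : ∀ D : X.Modules, FlatMod.IsFinLocFree D → Lef.HomToFormalBijective J D) {L : X.Modules}
    (hL : PicF.IsInvertible L) (h : Cube.pull (J ^ (n + 1)).subschemeι (Cube.clsMod hL) = 1) :
    Nonempty (L ≅ Coh.structureModule X) := by
  obtain ⟨M, hM, eM⟩ := VA.exists_inverse hL
  obtain ⟨φ, hφ⟩ := exists_hom_levelwise_iso J n hs hL h (hb L (Euler.isFinLocFree_of_isInvertible hL))
  obtain ⟨φ', hφ'⟩ := exists_hom_levelwise_iso J n hs hM (by rw [eM, map_inv, h, inv_one])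
    (hb M (Euler.isFinLocFree_of_isInvertible hM))
  have hunit : Nonempty (CohB1.tensorMod L M ≅ Coh.structureModule X) := by
    rw [← Cube.clsMod_eq_one_iff (Ample.isInvertible_tensorMod hL hM), Cube.clsMod_tensorMod hL hM, eM, mul_inv_cancel]
  obtain ⟨ε⟩ := hunit
  let r : ((DCoh.tensorBi (X := X)).obj L).obj (Coh.structureModule X) ≅ L :=
    ((OX.tensorBraiding (X := X)).app (Coh.structureModule X)).app L ≪≫ OX.tensorUnitLeftIso L
  let ψ : Coh.structureModule X ⟶ L := ε.inv ≫ ((DCoh.tensorBi (X := X)).obj L).map φ' ≫ r.hom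
  have hiso : IsIso (ψ ≫ φ) := by
    refine isIso_of_levelwise J (hb _ ?_) _ fun m => ?_
    · exact Euler.isFinLocFree_of_isInvertible (Euler.isInvertible_structure)
    · haveI := hφ m
      haveI := hφ' m
      haveI := isIso_pullback_map_tensor (J ^ (m + 1)).subschemeι L φ'
      simp only [ψ, Functor.map_comp]
      infer_instance
  haveI := hiso
  haveI : Epi φ := epi_of_epi ψ φ
  haveI := Algz56.isIso_of_epi_invertible hL Euler.isInvertible_structure φ
  exact ⟨asIso φ⟩

end GrothLib.LefPic7
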